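import Cfsg.Agent.Lib.Coh.E23.Data

/-! The non-split extension of `M23` by its cocode module. -/

set_option autoImplicit false
set_option maxRecDepth 100000

namespace Cfsg.Agent.Coh.E23

open Cfsg.Agent.PG Cfsg.Agent.Golay Equiv
open scoped Pointwise symmDiff

theorem hP : Pairs S := pairB_spec pairs

/-- the projection onto `M23` -/
noncomputable def φ0 : K A 0 →* Spor.M23 :=
  (M24.subtype.comp (toM24 hA m24 0)).codRestrict _ fun σ => ⟨(toM24 hA m24 0 σ).2, by
    have h1 := stabB_shl.1 (K_le_stabB hA (by decide) fix23 σ.2)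
    show toG σ none = none
    rw [(K_E24 hA m24 σ.2).1.apply, show idx none = 23 from rfl, h1]; rfl⟩

theorem φ0_coe (σ : K A 0) : (φ0 σ : Perm GolayPt) = toG σ := rfl

theorem mem_ker (σ : K A 0) : σ ∈ φ0.ker ↔ (σ : Perm ℕ) ∈ K A 7 := by
  have hl := (K_E24 hA m24 σ.2).1
  rw [MonoidHom.mem_ker, ← OneMemClass.coe_eq_one, φ0_coe]
  constructor
  · intro h
    have hf : FixIs A 0 I24 7 :=
      .step stab0 (by show _ < 24; norm_num) <| .step stab1 (by show _ < 24; norm_num) <|
      .step stab2 (by show _ < 24; norm_num) <| .step stab3 (by show _ < 24; norm_num) <|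
      .step stab4 (by show _ < 24; norm_num) <| .step stab5 (by show _ < 24; norm_num) <|
      .refl A 7 _
    refine hf.2 _ σ.2 fun i hi => ?_
    have := hl.idx (pt i)
    rw [h, idx_pt i hi] at this
    rw [← this]; exact idx_pt i hi
  · intro h
    ext1 p
    rw [hl.apply, fixIvl_spec hA fixN _ h _ (mem_bset_ivl.2 ⟨Nat.zero_le _, idx_lt p⟩), pt_idx]
    rfl

theorem φ0_surj : Function.Surjective φ0 := by
  have := finite_K hA 0
  apply surj_of_card_ker
  have : φ0.ker = (K A 7).subgroupOf (K A 0) := by ext σ; exact mem_ker σ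
  rw [this, card_subgroupOf_K (by norm_num), card0, card6, card_M23]

theorem gp_T {k : ℕ} (hk : k < 11) : gp A (7 + k) = hP.T (wd (ofMask (nthD 0 us k))) := by
  rw [← hP.isT_spec hA (allN_spec isT_gen k hk), pp_gw (by show 7 + k < 128; omega)]; rfl

theorem T_zero : hP.T 0 = 1 := hP.T_eq_one.2 (by simp)

theorem T_eq_one {w : GolayPt → ZMod 2} :
    hP.T w = 1 ↔ (w ∈ golayCode ∨ w + Pi.single none 1 ∈ golayCode) := by
  rw [hP.T_eq_one, ← dual_ΦC]
  refine ⟨fun h s hs => ΦC.sum_eq_zero (fun x hx => ?_) hs, fun h i => h _ (hP.phi i)⟩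
  obtain ⟨l, -, e⟩ := span_cols x hx
  clear hx
  subst e
  induction l with
  | nil => simp [ofMask_zero]
  | cons i l ih =>
    show ∑ p ∈ ofMask (colVal S i ^^^ (l.map (colVal S)).foldr Nat.xor 0), w p = 0
    rw [ofMask_xor, sum_symmDiff2, ih, add_zero]
    exact h i

theorem xorSel_back {P : ℕ → Prop} (hx : ∀ a b, P a → P b → P (a ^^^ b)) (h0 : P 0) {l : List ℕ}
    (hl : ∀ a ∈ l, P a) (M acc : ℕ) (h : P (xorSel l M acc)) : P acc := by
  induction l generalizing M acc with
  | nil => exact h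
  | cons a l ih =>
    have e : xorSel (a :: l) M acc = xorSel l (M >>> 1) (acc ^^^ sel M 0 a) :=
      (force_eq (Nat.xor acc (sel M 0 a)) fun acc' =>
        force (Nat.shiftRight M 1) fun M' => xorSel l M' acc').trans (force_eq _ _)
    rw [e] at h
    have h1 := ih (fun b hb => hl b (List.mem_cons_of_mem _ hb)) _ _ h
    have h2 : P (sel M 0 a) := by
      rw [sel_eq]; split_ifs
      · exact hl a List.mem_cons_self
      · exact h0
    have := hx _ _ h1 h2
    rwa [Nat.xor_assoc, Nat.xor_self, Nat.xor_zero] at this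

theorem T_mem (w : GolayPt → ZMod 2) : hP.T w ∈ K A 7 := by
  have w0 : wd ∅ = 0 := by funext p; simp [wd]
  have h1 : ∀ p : GolayPt, hP.T (wd {p}) ∈ K A 7 := by
    intro p
    rw [← pt_idx p, ← ofMask_two_pow (idx_lt p), ← Nat.one_shiftLeft]
    refine xorSel_back (P := fun x => hP.T (wd (ofMask x)) ∈ K A 7) (fun a b ha hb => ?_) ?_
      (l := us) (fun a ha => ?_) (nthD 0 Mp (idx p)) _ ?_
    · rw [ofMask_xor, wd_symmDiff, hP.T_add]; exact Subgroup.mul_mem _ ha hb
    · rw [ofMask_zero, w0, T_zero]; exact Subgroup.one_mem _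
    · obtain ⟨k, hk, rfl⟩ := List.getElem_of_mem ha
      rw [← List.getD_eq_getElem _ 0 hk, ← nthD_eq, ← gp_T hk]
      exact gp_mem_K A (by omega)
    · have := allN_spec span_us _ (idx_lt p)
      rw [force_eq, orB_eq, Bool.or_eq_true] at this
      have e : hP.T (wd (ofMask (xorSel us (nthD 0 Mp (idx p)) (Nat.shiftLeft 1 (idx p))))) = 1 := by
        rw [T_eq_one]
        rcases this with h | h
        · exact Or.inl ((cw_iff _).1 (cw_of_isCw h))
        · right
          have h2 := (cw_iff _).1 (cw_of_isCw h)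
          rw [show ∀ a : ℕ, Nat.xor a 0x800000 = a ^^^ 2 ^ 23 from fun _ => rfl, ofMask_xor,
            wd_symmDiff, ofMask_two_pow (by norm_num)] at h2
          have : wd {pt 23} = Pi.single none 1 := by decide
          rwa [this] at h2
      exact e ▸ Subgroup.one_mem _
  rw [← wd_support w]
  induction support₂ w using Finset.induction_on with
  | empty => rw [w0, T_zero]; exact Subgroup.one_mem _
  | insert p s hp ih =>
    have : insert p s = {p} ∆ s := by
      ext q; simp only [Finset.mem_insert, Finset.mem_symmDiff, Finset.mem_singleton]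
      constructor
      · rintro (rfl | h)
        · exact Or.inl ⟨rfl, hp⟩
        · exact Or.inr ⟨h, fun e => hp (e ▸ h)⟩
      · rintro (h | h)
        · exact Or.inl h.1
        · exact Or.inr h.1
    rw [this, wd_symmDiff, hP.T_add]
    exact Subgroup.mul_mem _ (h1 p) ih

theorem exists_T {σ : Perm ℕ} (hσ : σ ∈ K A 7) : ∃ w, hP.T w = σ := by
  let R : Subgroup (Perm ℕ) :=
    { carrier := Set.range hP.T
      one_mem' := ⟨0, T_zero⟩
      mul_mem' := by rintro _ _ ⟨a, rfl⟩ ⟨b, rfl⟩; exact ⟨a + b, hP.T_add a b⟩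
      inv_mem' := by
        rintro _ ⟨a, rfl⟩
        refine ⟨a, eq_inv_of_mul_eq_one_left ?_⟩
        rw [← hP.T_add, show a + a = 0 from funext fun _ => CharTwo.add_self_eq_zero _, T_zero] }
  refine K_le (Q := R) (fun j h1 h2 => ?_) hσ
  obtain ⟨k, rfl⟩ : ∃ k, j = 7 + k := ⟨j - 7, by omega⟩
  rw [hlen] at h2
  exact ⟨_, (gp_T (by omega)).symm⟩

/-- the map from words onto the kernel -/
noncomputable def θ0 : (GolayPt → ZMod 2) →+ Additive φ0.ker :=
  AddMonoidHom.mk' (fun w => Additive.ofMul ⟨⟨hP.T w, K_mono A (by norm_num) (T_mem w)⟩,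
    (mem_ker _).2 (T_mem w)⟩) fun a b => by
      rw [← ofMul_mul]; exact congrArg _ (Subtype.ext (Subtype.ext (hP.T_add a b)))

theorem θ0_coe (w : GolayPt → ZMod 2) : (((θ0 w).toMul : K A 0) : Perm ℕ) = hP.T w := rfl

/-- the isomorphism of the quotient -/
noncomputable def φ1 : K A 0 ⧸ φ0.ker ≃* Spor.M23 :=
  QuotientGroup.quotientKerEquivOfSurjective φ0 φ0_surj

theorem θ0_surj : Function.Surjective θ0 := by
  intro n
  obtain ⟨w, hw⟩ := exists_T ((mem_ker _).1 n.toMul.2)
  exact ⟨w, Additive.toMul.injective (Subtype.ext (Subtype.ext hw))⟩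

theorem θ0_ker (w : GolayPt → ZMod 2) :
    θ0 w = 0 ↔ (w ∈ golayCode ∨ w + Pi.single none 1 ∈ golayCode) := by
  rw [← T_eq_one, ← θ0_coe]
  exact ⟨fun h => by rw [h]; rfl, fun h => Additive.toMul.injective (Subtype.ext (Subtype.ext h))⟩

theorem θ0_conj (g : K A 0) (w : GolayPt → ZMod 2) :
    ((θ0 (w ∘ ⇑(((φ1 (QuotientGroup.mk g) : ↥Spor.M23) : Equiv.Perm GolayPt)⁻¹))).toMul : K A 0)
      = g * ((θ0 w).toMul : K A 0) * g⁻¹ :=
  Subtype.ext (hP.T_conj (smul_XS hA m24 sub g.2) w)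

theorem pack_word (w : ℕ) :
    pack (toG (wp A w)) = build (pre A [2 * w + 1]) 24 := by
  refine build_congr fun i hi => ?_
  have hm : wp A w ∈ K A 0 := by
    have := pp_mem_K0 A [2 * w]
    rwa [pp_cons, pp_nil, mul_one, sp_even] at this
  rw [(K_E24 hA m24 hm).1.idx, idx_pt i hi, pre_eq hA, pp_cons, pp_nil, mul_one, sp_odd, inv_inv]

theorem nonsplit (H : Subgroup (K A 0)) (h1 : H ⊓ φ0.ker = ⊥) : H ⊔ φ0.ker ≠ ⊤ := by
  intro h2
  obtain ⟨c, hc, hπ, hL⟩ := exists_isCo φ0.ker φ1 θ0 θ0_surj θ0_ker θ0_conj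
  have hm : ∀ w, wp A w ∈ K A 0 := fun w => by
    have := pp_mem_K0 A [2 * w]
    rwa [pp_cons, pp_nil, mul_one, sp_even] at this
  let ℓ : ℕ → K A 0 := fun x => match x with
    | 0 => ⟨_, hm wi⟩
    | 1 => ⟨_, hm wj⟩
    | _ + 2 => 1
  have hl : c.Lift gq ℓ := by
    intro x
    rw [hπ]
    match x with
    | 0 => exact (pack_word wi).trans pack_i
    | 1 => exact (pack_word wj).trans pack_j
    | x + 2 => exact (congrArg pack (map_one _)).trans pack_one
  have : ∀ x, ∃ y, ℓ x * ((θ0 y).toMul : K A 0) ∈ H := by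
    intro x
    have : ℓ x ∈ ((H : Set (K A 0)) * (φ0.ker : Set (K A 0))) := by
      rw [← Subgroup.mul_normal, h2]; trivial
    obtain ⟨h, hh, n, hn, e⟩ := this
    obtain ⟨y, hy⟩ := θ0_surj (Additive.ofMul ⟨n⁻¹, φ0.ker.inv_mem hn⟩)
    refine ⟨y, ?_⟩
    rw [hy, ← e]
    simpa using hh
  choose y hy using this
  let κ : ℕ → K A 0 := fun x => if x < 2 then ((θ0 (y x)).toMul : K A 0) else 1
  have k1 : ∀ j, c.π (κ j) = 1 := by
    intro j
    simp only [κ]
    split_ifs
    · exact (hc.ker _).2 (θ0 (y j)).toMul.2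
    · exact map_one _
  have k2 : ∀ j s, c.Φ s → c.L s (κ j) = if j < 2 then ∑ p ∈ s, y j p else 0 := by
    intro j s hs
    simp only [κ]
    split_ifs
    · exact hL _ s (hc.phi ▸ hs)
    · exact c.L_one hs
  have hH : ∀ j, ℓ j * κ j ∈ H := by
    intro j
    match j with
    | 0 => exact hy 0
    | 1 => exact hy 1
    | j + 2 =>
      have : ℓ (j + 2) * κ (j + 2) = 1 := by simp [ℓ, κ]
      rw [this]; exact H.one_mem
  have hev : ∀ w, ev (fun j => ℓ j * κ j) w ∈ H := by
    intro w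
    induction w with
    | nil => exact H.one_mem
    | cons x w ih => rw [ev_cons]; exact H.mul_mem (hH x) ih
  have key : ∀ (r : Rel) (x u : ℕ), okC x = true → ((tail ℓ r : K A 0) : Perm ℕ) =
      hP.T (wd (ofMask u)) → (pc (x &&& u) : ZMod 2) + val 2 (foxR gq r x) y = 0 := by
    intro r x u hx hu
    have e : tail ℓ r = ((θ0 (wd (ofMask u))).toMul : K A 0) := Subtype.ext hu
    have hΦ : c.Φ (ofMask x) := hc.phi ▸ okC_spec hx
    have p1 : c.π (tail ℓ r) = 1 := e ▸ (hc.ker _).2 (θ0 _).toMul.2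
    have t := c.tail_mod hl k1 k2 p1 hΦ
    have p2 : tail (fun j => ℓ j * κ j) r = 1 := by
      rw [← Subgroup.mem_bot, ← h1]
      refine ⟨H.mul_mem (H.inv_mem (hev _)) (hev _), (hc.ker _).1 ?_⟩
      rw [map_tail] at p1 ⊢
      simpa [k1] using p1
    rw [p2, c.L_one hΦ, e, hL _ _ (okC_spec hx), sum_wd, ← ofMask_and, card_ofMask] at t
    exact t.symm
  have t0 := key ([0, 0], [1, 1]) 0x1b155b 0x41f (by decide +kernel) (by
    rw [← hP.isT_spec hA tail0]
    simp [tail, ℓ, sp_even, sp_odd, mul_assoc])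
  have t1 := key ([0, 1, 0], [1]) 0x145425 0x68b (by decide +kernel) (by
    rw [← hP.isT_spec hA tail1]
    simp [tail, ℓ, sp_even, sp_odd, mul_assoc])
  have f0 : foxR gq ([0, 0], [1, 1]) 0x1b155b = foxR gq ([0, 1, 0], [1]) 0x145425 := by
    decide +kernel
  rw [f0] at t0
  have := add_right_cancel (t0.trans t1.symm)
  revert this
  decide +kernel

end Cfsg.Agent.Coh.E23
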